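import Cfsg.Agent.GaloisAverage.Basic
import Cfsg.Agent.Blocks.RegularSupport
import Cfsg.Agent.Characters.Linear
import Cfsg.Agent.Characters.Orthogonality
import Cfsg.Prelude.Def_Blocks
import Mathlib.Algebra.CharP.Quotient
import Mathlib.GroupTheory.NoncommCoprod

/-!
# Character values modulo p

`pow_congr`: `χ g ^ p ^ n ≡ χ (g ^ p ^ n)` modulo `p`.  `isConj_of_congr`: two p-regular elements
are conjugate when all irreducible characters agree on them modulo `p` (test function: the
integral combination `∑_w ∑_χ conj χ(u w) χ / |P|`, `P` a Sylow p-subgroup of `C(u)`).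
-/

set_option autoImplicit false
set_option linter.unusedSectionVars false
set_option linter.style.haveILetI false

namespace CfsgLib.PowerCongruence

open Cfsg
open scoped ComplexConjugate

universe u

variable {G : Type u} [Group G] [Finite G] {p : ℕ} [hp : Fact p.Prime]

theorem not_dvd_natCast {n : ℕ} (hn : ¬ p ∣ n) (γ : AlgInt) : (n : ℂ) ≠ (p : ℂ) * (γ : ℂ) := by
  intro h
  have hp0 : (p : ℂ) ≠ 0 := Nat.cast_ne_zero.2 hp.out.ne_zero
  have hγ : (γ : ℂ) = ((n / p : ℚ) : ℂ) := by
    rw [Rat.cast_div, Rat.cast_natCast, Rat.cast_natCast, h, mul_div_cancel_left₀ _ hp0]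
  obtain ⟨z, hz⟩ := CfsgLib.GaloisAverage.exists_int_of_isIntegral_ratCast (q := n / p)
    (hγ ▸ γ.2 : IsIntegral ℤ ((n / p : ℚ) : ℂ))
  rw [hz] at hγ
  rw [hγ] at h
  have h2 : (n : ℤ) = (p : ℤ) * z := by exact_mod_cast h
  exact hn (Int.natCast_dvd_natCast.1 ⟨z, h2⟩)

/-- A p-power of a sum is the sum of the powers modulo `p`. -/
theorem sum_pow_congr {ι : Type*} (s : Finset ι) (a : ι → AlgInt) (n : ℕ) :
    ∃ γ : AlgInt, (∑ i ∈ s, a i) ^ p ^ n = ∑ i ∈ s, a i ^ p ^ n + (p : AlgInt) * γ := by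
  have hnu : (p : AlgInt) ∈ nonunits AlgInt := fun hu => by
    obtain ⟨γ, hγ⟩ := hu.exists_right_inv
    refine not_dvd_natCast (n := 1) hp.out.not_dvd_one γ ?_
    have := congrArg (Subtype.val : AlgInt → ℂ) hγ
    push_cast at this ⊢
    exact this.symm
  haveI : CharP (AlgInt ⧸ Ideal.span ({(p : AlgInt)} : Set AlgInt)) p := CharP.quotient _ p hnu
  have h0 : Ideal.Quotient.mk (Ideal.span ({(p : AlgInt)} : Set AlgInt))
      ((∑ i ∈ s, a i) ^ p ^ n - ∑ i ∈ s, a i ^ p ^ n) = 0 := by
    rw [map_sub, map_pow, map_sum, sum_pow_char_pow, map_sum, sub_eq_zero]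
    exact Finset.sum_congr rfl fun i _ => (map_pow _ _ _).symm
  rw [Ideal.Quotient.eq_zero_iff_mem, Ideal.mem_span_singleton] at h0
  obtain ⟨γ, hγ⟩ := h0
  exact ⟨γ, by rw [← hγ]; ring⟩

/-- `χ g ^ p ^ n ≡ χ (g ^ p ^ n)` modulo `p`. -/
theorem pow_congr {χ : G → ℂ} (hχ : Cfsg.IsCharacter G χ) (g : G) (n : ℕ) :
    ∃ γ : AlgInt, χ g ^ p ^ n - χ (g ^ p ^ n) = (p : ℂ) * (γ : ℂ) := by
  obtain ⟨m, ρ, rfl⟩ := hχ
  obtain ⟨μ, hμ, hj, -⟩ := CfsgLib.Characters.exists_eigenvalues ρ g
  have hi : ∀ i, IsIntegral ℤ (μ i) := fun i =>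
    IsIntegral.of_pow (n := orderOf g) (orderOf_pos g) (by rw [hμ i]; exact isIntegral_one)
  obtain ⟨γ, hγ⟩ := sum_pow_congr (p := p) Finset.univ (fun i => (⟨μ i, hi i⟩ : AlgInt)) n
  refine ⟨γ, ?_⟩
  have h1 := congrArg (Subtype.val : AlgInt → ℂ) hγ
  push_cast at h1
  have e1 : ρ.character g = ∑ i, μ i := by simpa using hj 1
  rw [e1, hj, h1]
  ring

open Classical in
/-- Two p-regular elements on which all characters agree modulo `p` are conjugate. -/
theorem isConj_of_congr {u v : G} (hu : ¬ p ∣ orderOf u) (hv : ¬ p ∣ orderOf v)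
    (h : ∀ χ : IrrCharacter G, ∃ γ : AlgInt,
      (χ : G → ℂ) u - (χ : G → ℂ) v = (p : ℂ) * (γ : ℂ)) : IsConj u v := by
  by_contra hne
  haveI := Fintype.ofFinite G
  obtain ⟨S⟩ := (inferInstance : Nonempty (Sylow p (Subgroup.centralizer ({u} : Set G))))
  set P : Subgroup G := (S : Subgroup (Subgroup.centralizer ({u} : Set G))).map
    (Subgroup.centralizer ({u} : Set G)).subtype with hP
  haveI := Fintype.ofFinite P
  have hPp : IsPGroup p P := S.isPGroup'.map _
  have hcomm : ∀ w ∈ P, Commute u w := by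
    rintro _ ⟨w, -, rfl⟩
    exact (Subgroup.mem_centralizer_singleton_iff.1 w.2).symm
  -- the coefficients
  have hcoef : ∀ χ : IrrCharacter G, ∃ a : AlgInt,
      (a : ℂ) = (Nat.card P : ℂ)⁻¹ * ∑ w : P, conj ((χ : G → ℂ) (u * w)) := by
    intro χ
    let U : Subgroup G := Subgroup.zpowers u
    haveI := Fintype.ofFinite U
    let Φ : U × P →* G := MonoidHom.noncommCoprod U.subtype P.subtype fun a w => by
      obtain ⟨i, hi⟩ := a.2
      show Commute (a : G) (w : G)
      rw [← hi]
      exact (hcomm w w.2).zpow_left i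
    set f : U × P → ℂ := fun x => (χ : G → ℂ) (Φ x) with hf
    have hfchar : Cfsg.IsCharacter (U × P) f :=
      Characters.isCharacter_comp Φ (Characters.isCharacter_of_isIrr χ.2)
    let z : U × P := (⟨u, Subgroup.mem_zpowers u⟩, 1)
    have hzc : z ∈ Subgroup.center (U × P) := Subgroup.mem_center_iff.2 fun x => by
      obtain ⟨i, hi⟩ := x.1.2
      refine Prod.ext (Subtype.ext ?_) (by simp [z])
      show (x.1 : G) * u = u * x.1
      rw [← hi]
      exact ((Commute.refl u).zpow_left i).eq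
    have hη : ∀ η : IrrCharacter (U × P), IsIntegral ℤ
        (∑ w : P, (η : U × P → ℂ) (z * (1, w)) / (Nat.card P : ℂ)) := by
      intro η
      obtain ⟨m, ρ, hρ, hηρ⟩ := η.2
      haveI := hρ
      obtain ⟨c, hc⟩ := Characters.central_scalar ρ hzc
      have hval : ∀ x, (η : U × P → ℂ) (z * x) = c * (η : U × P → ℂ) x := by
        intro x
        rw [← hηρ, Representation.character, Representation.character, map_mul, hc,
          smul_mul_assoc, map_smul, smul_eq_mul, ← Module.End.one_eq_id, one_mul]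
      have hcint : IsIntegral ℤ c := by
        have hpow : ∀ k : ℕ, (η : U × P → ℂ) (z ^ k) = c ^ k * (η : U × P → ℂ) 1 := by
          intro k
          induction k with
          | zero => simp
          | succ k ih => rw [pow_succ', hval, ih]; ring
        have h1 := hpow (orderOf z)
        rw [pow_orderOf_eq_one] at h1
        have h2 : c ^ orderOf z = 1 :=
          (mul_eq_right₀ (Characters.irr_one_ne_zero η.2)).1 h1.symm
        exact IsIntegral.of_pow (orderOf_pos z) (by rw [h2]; exact isIntegral_one)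
      obtain ⟨k, hk⟩ := Characters.classInner_character_irr
        (Characters.isCharacter_comp (MonoidHom.inr U P) (Characters.isCharacter_of_isIrr η.2))
        (Characters.isIrr_one (G := P))
      have e : ∑ w : P, (η : U × P → ℂ) (z * (1, w)) / (Nat.card P : ℂ) = c * (k : ℂ) := by
        rw [← hk, Cfsg.classInner, Finset.mul_sum, Finset.mul_sum]
        refine Finset.sum_congr rfl fun w _ => ?_
        rw [hval, map_one, mul_one, div_eq_mul_inv, MonoidHom.inr_apply]
        ring
      rw [e]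
      exact hcint.mul (by simpa using isIntegral_algebraMap (R := ℤ) (A := ℂ) (x := (k : ℤ)) : IsIntegral ℤ (k : ℂ))
    have hconjInt : IsIntegral ℤ ((Nat.card P : ℂ)⁻¹ * ∑ w : P, (χ : G → ℂ) (u * w)) := by
      have hexp := Characters.classFunction_expansion
        (Characters.isClassFunction_of_isCharacter hfchar)
      have e : (Nat.card P : ℂ)⁻¹ * ∑ w : P, (χ : G → ℂ) (u * w) =
          ∑ η : IrrCharacter (U × P), Cfsg.classInner f (η : U × P → ℂ) *
            ∑ w : P, (η : U × P → ℂ) (z * (1, w)) / (Nat.card P : ℂ) := by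
        simp only [Finset.mul_sum]
        rw [Finset.sum_comm]
        refine Finset.sum_congr rfl fun w _ => ?_
        have h1 := congrFun hexp (z * (1, w))
        simp only [Finset.sum_apply, Pi.smul_apply, smul_eq_mul] at h1
        have h2 : f (z * (1, w)) = (χ : G → ℂ) (u * w) := by
          show (χ : G → ℂ) (Φ _) = _
          congr 1
          simp [Φ, z, MonoidHom.noncommCoprod_apply]
        rw [← h2, h1, Finset.mul_sum]
        exact Finset.sum_congr rfl fun η _ => by ring
      rw [e]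
      refine IsIntegral.sum _ fun η _ => ?_
      obtain ⟨k, hk⟩ := Characters.classInner_character_irr hfchar η.2
      rw [hk]
      exact (by simpa using isIntegral_algebraMap (R := ℤ) (A := ℂ) (x := (k : ℤ)) : IsIntegral ℤ (k : ℂ)).mul (hη η)
    refine ⟨⟨(Nat.card P : ℂ)⁻¹ * ∑ w : P, conj ((χ : G → ℂ) (u * w)), ?_⟩, rfl⟩
    have h2 := IsIntegral.map (AlgHom.restrictScalars ℤ (Complex.conjAe : ℂ ≃ₐ[ℝ] ℂ).toAlgHom)
      hconjInt
    show IsIntegral ℤ _
    simpa [map_sum] using h2
  choose a ha using hcoef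
  choose γ hγ using h
  have hval : ∀ g : G, ¬ p ∣ orderOf g → ∑ χ : IrrCharacter G, (a χ : ℂ) * (χ : G → ℂ) g =
      (Nat.card P : ℂ)⁻¹ * (Nat.card {x : G // x * g * x⁻¹ = u} : ℂ) := by
    intro g hg
    simp only [ha, mul_assoc, Finset.sum_mul, ← Finset.mul_sum]
    congr 1
    rw [Finset.sum_comm]
    have hc : ∀ w : P, ∑ χ : IrrCharacter G, conj ((χ : G → ℂ) (u * w)) * (χ : G → ℂ) g =
        if w = 1 then (Nat.card {x : G // x * g * x⁻¹ = u} : ℂ) else 0 := by
      intro w
      rw [Finset.sum_congr rfl fun χ _ => mul_comm _ _, Characters.sum_irr_mul_conj]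
      split_ifs with hw
      · subst hw
        simp
      · haveI : IsEmpty {x : G // x * g * x⁻¹ = u * (w : G)} := ⟨fun x => hw (Subtype.ext
          (CfsgLib.Blocks.regular_mul_pgroup_eq hPp w.2 hu (hcomm w w.2) (by
            rw [← x.2, show x.1 * g * x.1⁻¹ = MulAut.conj x.1 g from rfl, MulEquiv.orderOf_eq]
            exact hg)))⟩
        simp
    simp only [mul_assoc] at hc
    simp [hc]
  have h1 : Nat.card {x : G // x * v * x⁻¹ = u} = 0 := by
    haveI : IsEmpty {x : G // x * v * x⁻¹ = u} :=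
      ⟨fun x => hne (isConj_iff.2 ⟨x.1, x.2⟩).symm⟩
    simp
  have h2 : Nat.card {x : G // x * u * x⁻¹ = u} =
      Nat.card (Subgroup.centralizer ({u} : Set G)) :=
    Nat.card_congr (Equiv.subtypeEquivRight fun x => by
      rw [Subgroup.mem_centralizer_singleton_iff, mul_inv_eq_iff_eq_mul])
  have h3 : Nat.card (Subgroup.centralizer ({u} : Set G)) =
      Nat.card P * (S : Subgroup (Subgroup.centralizer ({u} : Set G))).index := by
    rw [hP, ← Subgroup.card_mul_index (S : Subgroup (Subgroup.centralizer ({u} : Set G)))]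
    congr 1
    exact Nat.card_congr (Subgroup.equivMapOfInjective _ _ (Subgroup.subtype_injective _)).toEquiv
  refine not_dvd_natCast (S.not_dvd_index) (∑ χ : IrrCharacter G, a χ * γ χ) ?_
  have hP0 : (Nat.card P : ℂ) ≠ 0 := Nat.cast_ne_zero.2 Nat.card_pos.ne'
  calc ((S : Subgroup (Subgroup.centralizer ({u} : Set G))).index : ℂ)
      = ∑ χ : IrrCharacter G, (a χ : ℂ) * (χ : G → ℂ) u -
          ∑ χ : IrrCharacter G, (a χ : ℂ) * (χ : G → ℂ) v := by
        rw [hval u hu, hval v hv, h1, h2, h3, Nat.cast_zero, mul_zero, sub_zero, Nat.cast_mul,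
          inv_mul_cancel_left₀ hP0]
    _ = ∑ χ : IrrCharacter G, (a χ : ℂ) * ((p : ℂ) * (γ χ : ℂ)) := by
        rw [← Finset.sum_sub_distrib]
        exact Finset.sum_congr rfl fun χ _ => by rw [← hγ]; ring
    _ = _ := by
        push_cast
        rw [Finset.mul_sum]
        exact Finset.sum_congr rfl fun χ _ => by ring

/-- The p-part of an element dies under the p-part of the group order. -/
theorem pow_eq_of_regular_part {x x' : G} (hk : ∃ k : ℕ, orderOf (x * x'⁻¹) = p ^ k)
    (hc : Commute (x * x'⁻¹) x') :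
    x ^ p ^ (Nat.card G).factorization p = x' ^ p ^ (Nat.card G).factorization p := by
  obtain ⟨k, hk⟩ := hk
  have hle : k ≤ (Nat.card G).factorization p :=
    (hp.out.pow_dvd_iff_le_factorization Nat.card_pos.ne').1 (hk ▸ orderOf_dvd_natCard _)
  conv_lhs => rw [show x = x * x'⁻¹ * x' by group, hc.mul_pow]
  rw [orderOf_dvd_iff_pow_eq_one.1 (hk ▸ pow_dvd_pow p hle), one_mul]

theorem isConj_of_pow {u v : G} (hu : ¬ p ∣ orderOf u) (hv : ¬ p ∣ orderOf v) {a : ℕ}
    (h : IsConj (u ^ p ^ a) (v ^ p ^ a)) : IsConj u v := by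
  have hpc : Nat.Coprime (p ^ a) (orderOf u * orderOf v) :=
    (Nat.Coprime.mul_right ((hp.out.coprime_iff_not_dvd).2 hu)
      ((hp.out.coprime_iff_not_dvd).2 hv)).pow_left a
  obtain ⟨m, hm⟩ := exists_pow_eq_self_of_coprime (x := u) (hpc.coprime_dvd_right (dvd_mul_right _ _))
  obtain ⟨c, hc⟩ := isConj_iff.1 h
  refine isConj_iff.2 ⟨c, ?_⟩
  have hinj : Function.Injective fun w : Subgroup.zpowers v => w ^ p ^ a :=
    (powCoprime (G := Subgroup.zpowers v) (n := p ^ a) (by
      rw [Nat.card_zpowers]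
      exact (hpc.coprime_dvd_right (dvd_mul_left _ _)).symm)).injective
  have h1 : c * u * c⁻¹ ∈ Subgroup.zpowers v := by
    conv => arg 2; rw [← hm]
    rw [← conj_pow, hc]
    exact pow_mem (pow_mem (Subgroup.mem_zpowers v) _) _
  exact congrArg Subtype.val (@hinj ⟨_, h1⟩ ⟨v, Subgroup.mem_zpowers v⟩
    (Subtype.ext (by simp [conj_pow, hc])))

end CfsgLib.PowerCongruence
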